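import Mathlib
import Cfsg.Prelude.Def_Local
import Cfsg.Prelude.Def_TwoFusion
import Cfsg.Agent.Lib.ZStar.Main

/-!
A standard subgroup with centre of order two whose centraliser has cyclic Sylow 2-subgroups and all whose
automorphisms are inner: the centraliser of the central involution is `A * C(A)`, every commuting conjugate of
the involution lies in `A`, elementary subgroups project into `A`, and absence of fusion forces normality.
-/

set_option autoImplicit false
set_option linter.style.haveILetI false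
set_option linter.unusedSectionVars false

namespace Cfsg.Agent.StdCyclic

universe u

variable {G : Type u} [Group G] [Finite G]

/-- The hypotheses, with the central involution `z`. -/
structure Data (A : Subgroup G) (z : G) : Prop where
  memA : z ∈ A
  ord : orderOf z = 2
  cent : ∀ a ∈ A, Commute a z
  meet : ∀ a ∈ A, a ∈ Subgroup.centralizer (A : Set G) → a = 1 ∨ a = z
  std : Cfsg.IsStandardSubgroup A
  cyc : ∀ R : Sylow 2 ↥(Subgroup.centralizer (A : Set G)),
    IsCyclic ↥(R : Subgroup ↥(Subgroup.centralizer (A : Set G)))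
  inner : ∀ f : ↥A ≃* ↥A, ∃ a : ↥A, ∀ x : ↥A, f x = a * x * a⁻¹

/-- The central involution exists. -/
theorem exists_data (A : Subgroup G) (hA : Cfsg.IsStandardSubgroup A)
    (hZ : Nat.card ↥(Subgroup.center ↥A) = 2)
    (hR : ∀ R : Sylow 2 ↥(Subgroup.centralizer (A : Set G)),
      IsCyclic ↥(R : Subgroup ↥(Subgroup.centralizer (A : Set G))))
    (hI : ∀ f : ↥A ≃* ↥A, ∃ a : ↥A, ∀ x : ↥A, f x = a * x * a⁻¹) :
    ∃ z, Data A z := by
  haveI : Fact (Nat.Prime 2) := ⟨Nat.prime_two⟩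
  obtain ⟨y, hy⟩ := exists_prime_orderOf_dvd_card' (G := ↥(Subgroup.center ↥A)) 2 (by rw [hZ])
  have hy1 : y ≠ 1 := fun h => by rw [h, orderOf_one] at hy; omega
  refine ⟨((y : ↥A) : G), ⟨(y : ↥A).2, by rw [Subgroup.orderOf_coe, Subgroup.orderOf_coe, hy],
    fun a ha => ?_, fun a ha hac => ?_, hA, hR, hI⟩⟩
  · exact congrArg Subtype.val (Subgroup.mem_center_iff.1 y.2 ⟨a, ha⟩)
  · have hc : (⟨a, ha⟩ : ↥A) ∈ Subgroup.center ↥A := Subgroup.mem_center_iff.2 fun b =>
      Subtype.ext (Subgroup.mem_centralizer_iff.1 hac b b.2)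
    obtain ⟨u, v, huv, heq⟩ := Nat.card_eq_two_iff.1 hZ
    have hall : ∀ w : ↥(Subgroup.center ↥A), w = u ∨ w = v := fun w => by
      have := Set.eq_univ_iff_forall.1 heq w; simpa using this
    have h2 : (⟨⟨a, ha⟩, hc⟩ : ↥(Subgroup.center ↥A)) = 1 ∨
        (⟨⟨a, ha⟩, hc⟩ : ↥(Subgroup.center ↥A)) = y := by
      rcases hall 1 with e1 | e1 <;> rcases hall y with e2 | e2 <;> rcases hall ⟨⟨a, ha⟩, hc⟩ with e3 | e3
      all_goals first
        | exact Or.inl (e3.trans e1.symm)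
        | exact Or.inr (e3.trans e2.symm)
        | exact absurd (e2.trans e1.symm) hy1
    exact h2.imp (fun h => congrArg (fun w : ↥(Subgroup.center ↥A) => ((w : ↥A) : G)) h)
      (fun h => congrArg (fun w : ↥(Subgroup.center ↥A) => ((w : ↥A) : G)) h)

namespace Data

variable {A : Subgroup G} {z : G}

theorem z_mul (D : Data A z) : z * z = 1 := by
  rw [← pow_two, ← D.ord, pow_orderOf_eq_one]

theorem z_ne (D : Data A z) : z ≠ 1 := fun h => by
  have := D.ord; rw [h, orderOf_one] at this; omega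

theorem z_memC (D : Data A z) : z ∈ Subgroup.centralizer (A : Set G) :=
  Subgroup.mem_centralizer_iff.2 fun a ha => (D.cent a ha).eq

theorem comm_C (D : Data A z) {c : G} (hc : c ∈ Subgroup.centralizer (A : Set G)) : Commute c z :=
  (Subgroup.mem_centralizer_iff.1 hc z D.memA).symm

/-- The central involution is the only involution of the centraliser. -/
theorem invol_eq (D : Data A z) {c : G} (hc : c ∈ Subgroup.centralizer (A : Set G)) (h2 : c * c = 1) :
    c = 1 ∨ c = z := by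
  haveI : Fact (Nat.Prime 2) := ⟨Nat.prime_two⟩
  by_cases h1 : c = 1
  · exact Or.inl h1
  refine Or.inr ?_
  set C := Subgroup.centralizer (A : Set G)
  set c' : ↥C := ⟨c, hc⟩
  set z' : ↥C := ⟨z, D.z_memC⟩
  have hz'2 : orderOf z' = 2 := by rw [← Subgroup.orderOf_coe]; exact D.ord
  have hcomm : Commute c' z' := Subtype.ext (D.comm_C hc)
  -- a 2-subgroup containing both
  let K : Subgroup ↥C := Subgroup.closure {c', z'}
  have hK : IsPGroup 2 K := by
    have hab : IsMulCommutative K := Subgroup.isMulCommutative_closure (by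
      rintro x hx w hw
      rcases hx with rfl | rfl <;> rcases hw with rfl | rfl
      · rfl
      · exact hcomm.eq
      · exact hcomm.eq.symm
      · rfl)
    intro x
    refine ⟨1, ?_⟩
    rw [pow_one]
    obtain ⟨x, hx⟩ := x
    apply Subtype.ext
    show x ^ 2 = 1
    induction hx using Subgroup.closure_induction with
    | mem w hw =>
      rcases hw with rfl | rfl
      · exact Subtype.ext (by simpa [pow_two] using h2)
      · rw [← hz'2]; exact pow_orderOf_eq_one _
    | one => simp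
    | mul u v hu hv e1 e2 =>
      have : Commute u v := congrArg Subtype.val (hab.1.comm ⟨u, hu⟩ ⟨v, hv⟩)
      rw [this.mul_pow, e1, e2, one_mul]
    | inv u _ e => rw [inv_pow, e, inv_one]
  obtain ⟨R, hR⟩ := hK.exists_le_sylow
  haveI := D.cyc R
  have hcR : c' ∈ (R : Subgroup ↥C) := hR (Subgroup.subset_closure (Or.inl rfl))
  have hzR : z' ∈ (R : Subgroup ↥C) := hR (Subgroup.subset_closure (Or.inr rfl))
  by_contra hne
  classical
  haveI := Fintype.ofFinite ↥(R : Subgroup ↥C)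
  have h3 : ({1, ⟨c', hcR⟩, ⟨z', hzR⟩} : Finset ↥(R : Subgroup ↥C)).card = 3 := by
    rw [Finset.card_insert_of_notMem, Finset.card_pair]
    · intro h
      exact hne (congrArg (fun w : ↥(R : Subgroup ↥C) => ((w : ↥C) : G)) h)
    · simp only [Finset.mem_insert, Finset.mem_singleton]
      rintro (h | h)
      · exact h1 (congrArg (fun w : ↥(R : Subgroup ↥C) => ((w : ↥C) : G)) h).symm
      · exact D.z_ne (congrArg (fun w : ↥(R : Subgroup ↥C) => ((w : ↥C) : G)) h).symm
  have hsub : ({1, ⟨c', hcR⟩, ⟨z', hzR⟩} : Finset ↥(R : Subgroup ↥C)) ⊆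
      Finset.univ.filter fun a => a ^ 2 = 1 := by
    intro a ha
    simp only [Finset.mem_insert, Finset.mem_singleton] at ha
    rw [Finset.mem_filter]
    refine ⟨Finset.mem_univ _, ?_⟩
    rcases ha with rfl | rfl | rfl
    · simp
    · exact Subtype.ext (Subtype.ext (by simpa [pow_two] using h2))
    · exact Subtype.ext (Subtype.ext (by simpa [pow_two] using D.z_mul))
  have := Finset.card_le_card hsub
  have hcard := IsCyclic.card_pow_eq_one_le (α := ↥(R : Subgroup ↥C)) (n := 2) two_pos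
  omega

theorem normalizer_eq (D : Data A z) :
    Subgroup.normalizer (A : Set G) = Subgroup.centralizer ({z} : Set G) := by
  apply le_antisymm
  · intro g hg
    have h1 : g * z * g⁻¹ ∈ A := (Subgroup.mem_normalizer_iff.1 hg z).1 D.memA
    have h2 : g * z * g⁻¹ ∈ Subgroup.centralizer (A : Set G) := by
      refine Subgroup.mem_centralizer_iff.2 fun a ha => ?_
      have hb := (D.cent _ ((Subgroup.mem_normalizer_iff''.1 hg a).1 ha)).eq
      calc a * (g * z * g⁻¹) = g * (g⁻¹ * a * g * z) * g⁻¹ := by group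
        _ = g * (z * (g⁻¹ * a * g)) * g⁻¹ := by rw [hb]
        _ = g * z * g⁻¹ * a := by group
    refine Subgroup.mem_centralizer_singleton_iff.2 ?_
    rcases D.meet _ h1 h2 with h | h
    · exact absurd (conj_eq_one_iff.1 h) D.z_ne
    · exact (mul_inv_eq_iff_eq_mul.1 h)
  · intro g hg
    rw [D.std.2.2.2]
    by_contra hn
    have h := D.std.2.1.2 g hn
    have hz : z ∈ Subgroup.centralizer (A : Set G) ⊓
        (Subgroup.centralizer (A : Set G)).map (MulAut.conj g).toMonoidHom :=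
      ⟨D.z_memC, z, D.z_memC, by
        show g * z * g⁻¹ = z
        rw [Subgroup.mem_centralizer_singleton_iff.1 hg, mul_inv_cancel_right]⟩
    refine Nat.not_even_iff_odd.2 h (even_iff_two_dvd.2 ?_)
    rw [← D.ord]
    exact (Subgroup.orderOf_mk _ hz).symm ▸ orderOf_dvd_natCard (⟨z, hz⟩ : ↥(_ : Subgroup G))

/-- The centraliser of the involution is the product of `A` and its centraliser. -/
theorem split (D : Data A z) {g : G} (hg : Commute g z) :
    ∃ a ∈ A, ∃ c ∈ Subgroup.centralizer (A : Set G), g = a * c := by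
  have hn : g ∈ Subgroup.normalizer (A : Set G) := by
    rw [D.normalizer_eq]; exact Subgroup.mem_centralizer_singleton_iff.2 hg.eq
  let f : ↥A ≃* ↥A :=
    { toFun := fun x => ⟨g * x * g⁻¹, (Subgroup.mem_normalizer_iff.1 hn x).1 x.2⟩
      invFun := fun x => ⟨g⁻¹ * x * g, (Subgroup.mem_normalizer_iff''.1 hn x).1 x.2⟩
      left_inv := fun x => Subtype.ext (by simp [mul_assoc])
      right_inv := fun x => Subtype.ext (by simp [mul_assoc])
      map_mul' := fun x y => Subtype.ext (by simp [mul_assoc]) }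
  obtain ⟨a, ha⟩ := D.inner f
  refine ⟨a, a.2, (a : G)⁻¹ * g, Subgroup.mem_centralizer_iff.2 fun x hx => ?_, by group⟩
  have h : g * x * g⁻¹ = (a : G) * x * (a : G)⁻¹ := congrArg Subtype.val (ha ⟨x, hx⟩)
  have h' : g * x = (a : G) * x * (a : G)⁻¹ * g := mul_inv_eq_iff_eq_mul.1 h
  rw [mul_assoc, h']
  group

/-- A conjugate of the involution commuting with it lies in `A`. -/
theorem mem_of_conj (D : Data A z) {u : G} (hu : Commute u z) (hc : IsConj z u) : u ∈ A := by
  haveI : Fact (Nat.Prime 2) := ⟨Nat.prime_two⟩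
  obtain ⟨a, ha, c, hcC, rfl⟩ := D.split hu
  have hac : Commute a c := (Subgroup.mem_centralizer_iff.1 hcC a ha)
  obtain ⟨g, hg⟩ := isConj_iff.1 hc
  have hu2 : a * c * (a * c) = 1 := by
    rw [← hg]
    calc g * z * g⁻¹ * (g * z * g⁻¹) = g * (z * z) * g⁻¹ := by group
      _ = 1 := by rw [D.z_mul]; group
  have ha2 : a * a * (c * c) = 1 := by rw [← hu2]; exact hac.mul_mul_mul_comm a c
  have hcc : c * c = 1 ∨ c * c = z := by
    refine D.meet _ ?_ (mul_mem hcC hcC)
    rw [eq_inv_of_mul_eq_one_right ha2]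
    exact inv_mem (mul_mem ha ha)
  rcases hcc with hcc | hcc
  · rcases D.invol_eq hcC hcc with rfl | rfl
    · rwa [mul_one]
    · exact mul_mem ha D.memA
  exfalso
  set C := Subgroup.centralizer (A : Set G) with hC
  -- transport the central involution into the conjugate
  have hzg : Commute (g⁻¹ * z * g) z := by
    have e : Commute (g * z * g⁻¹) z := hg ▸ hu
    show g⁻¹ * z * g * z = z * (g⁻¹ * z * g)
    calc g⁻¹ * z * g * z = g⁻¹ * (z * (g * z * g⁻¹)) * g := by group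
      _ = g⁻¹ * (g * z * g⁻¹ * z) * g := by rw [e.eq]
      _ = z * (g⁻¹ * z * g) := by group
  obtain ⟨a', ha', c', hc', he⟩ := D.split hzg
  have hac' : Commute a' c' := Subgroup.mem_centralizer_iff.1 hc' a' ha'
  have hc'2 : c' * c' = 1 ∨ c' * c' = z := by
    have h1 : a' * c' * (a' * c') = 1 := by
      rw [← he]
      calc g⁻¹ * z * g * (g⁻¹ * z * g) = g⁻¹ * (z * z) * g := by group
        _ = 1 := by rw [D.z_mul]; group
    have h2 : a' * a' * (c' * c') = 1 := by rw [← h1]; exact hac'.mul_mul_mul_comm a' c'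
    refine D.meet _ ?_ (mul_mem hc' hc')
    rw [eq_inv_of_mul_eq_one_right h2]
    exact inv_mem (mul_mem ha' ha')
  -- a Sylow subgroup through `c'`
  have hp : IsPGroup 2 ↥(Subgroup.zpowers (⟨c', hc'⟩ : ↥C)) := by
    refine IsPGroup.iff_orderOf.2 fun x => ?_
    obtain ⟨m, hm, hm'⟩ := (Nat.dvd_prime_pow Nat.prime_two).1
      (show orderOf x ∣ 2 ^ 2 from (orderOf_dvd_of_pow_eq_one (by
        obtain ⟨x, k, rfl⟩ := x
        apply Subtype.ext
        show ((⟨c', hc'⟩ : ↥C) ^ k) ^ (2 ^ 2) = 1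
        have h4 : (⟨c', hc'⟩ : ↥C) ^ (4 : ℕ) = 1 := Subtype.ext (by
          show c' ^ (4 : ℕ) = 1
          rw [show (4 : ℕ) = 2 * 2 from rfl, pow_mul, pow_two c']
          rcases hc'2 with e | e <;> rw [e]
          · simp
          · rw [pow_two, D.z_mul])
        rw [← zpow_natCast, ← zpow_mul, mul_comm, zpow_mul, zpow_natCast, show (2 ^ 2 : ℕ) = 4 from rfl,
          h4, one_zpow])))
    exact ⟨m, hm'⟩
  obtain ⟨R, hR⟩ := hp.exists_le_sylow
  haveI := D.cyc R
  obtain ⟨y, hy⟩ := IsCyclic.exists_generator (α := ↥(R : Subgroup ↥C))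
  have hcR : (⟨c', hc'⟩ : ↥C) ∈ (R : Subgroup ↥C) := hR (Subgroup.mem_zpowers _)
  have hyc : Commute ((y : ↥C) : G) c' := by
    obtain ⟨k, hk⟩ := Subgroup.mem_zpowers_iff.1 (hy ⟨_, hcR⟩)
    have hk' : ((y : ↥C) : G) ^ k = c' := by
      have := congrArg (fun w : ↥(R : Subgroup ↥C) => ((w : ↥C) : G)) hk
      simpa using this
    rw [← hk']; exact (Commute.refl _).zpow_right k
  -- the conjugated generator commutes with the involution
  set w := g * ((y : ↥C) : G) * g⁻¹ with hw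
  have hwz : Commute w z := by
    have h1 : Commute ((y : ↥C) : G) (g⁻¹ * z * g) := by
      rw [he]
      exact Commute.mul_right (Subgroup.mem_centralizer_iff.1 (y : ↥C).2 a' ha').symm hyc
    show g * ((y : ↥C) : G) * g⁻¹ * z = z * (g * ((y : ↥C) : G) * g⁻¹)
    calc g * ((y : ↥C) : G) * g⁻¹ * z
        = g * (((y : ↥C) : G) * (g⁻¹ * z * g)) * g⁻¹ := by group
      _ = g * (g⁻¹ * z * g * ((y : ↥C) : G)) * g⁻¹ := by rw [h1.eq]
      _ = z * (g * ((y : ↥C) : G) * g⁻¹) := by group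
  obtain ⟨n, hn⟩ : ∃ n, orderOf ((y : ↥C) : G) = 2 ^ n := by
    obtain ⟨n, hn⟩ := IsPGroup.iff_orderOf.1 R.2 y
    exact ⟨n, by rw [Subgroup.orderOf_coe, Subgroup.orderOf_coe, hn]⟩
  have hn0 : n ≠ 0 := fun h => by
    rw [h, pow_zero, orderOf_eq_one_iff] at hn
    have hRz : (⟨z, D.z_memC⟩ : ↥C) ∈ (R : Subgroup ↥C) := by
      have hzc : (⟨z, D.z_memC⟩ : ↥C) ∈ Subgroup.center ↥C :=
        Subgroup.mem_center_iff.2 fun c => Subtype.ext (D.comm_C c.2)
      haveI : (Subgroup.zpowers (⟨z, D.z_memC⟩ : ↥C)).Normal := ⟨fun x hx k => by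
        rwa [Subgroup.mem_center_iff.1 (Subgroup.zpowers_le.2 hzc hx) k, mul_inv_cancel_right]⟩
      have hz2 : IsPGroup 2 ↥(Subgroup.zpowers (⟨z, D.z_memC⟩ : ↥C)) :=
        IsPGroup.of_card (n := 1) (by
          rw [Nat.card_zpowers, pow_one, ← Subgroup.orderOf_coe]; exact D.ord)
      exact hz2.le_sylow_of_normal R (Subgroup.mem_zpowers _)
    obtain ⟨k, hk⟩ := Subgroup.mem_zpowers_iff.1 (hy ⟨_, hRz⟩)
    have hk' : ((y : ↥C) : G) ^ k = z := by
      simpa using congrArg (fun w : ↥(R : Subgroup ↥C) => ((w : ↥C) : G)) hk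
    rw [hn, one_zpow] at hk'
    exact D.z_ne hk'.symm
  obtain ⟨m, rfl⟩ := Nat.exists_eq_succ_of_ne_zero hn0
  -- its 2 ^ m power is the conjugate
  have hpow : w ^ (2 ^ m) = a * c := by
    have h1 : ((y : ↥C) : G) ^ (2 ^ m) = z := by
      refine (D.invol_eq (pow_mem (y : ↥C).2 _) ?_).resolve_left ?_
      · rw [← pow_two, ← pow_mul, ← pow_succ, ← hn, pow_orderOf_eq_one]
      · exact pow_ne_one_of_lt_orderOf (by positivity)
          (by rw [hn]; exact Nat.pow_lt_pow_right (by norm_num) (Nat.lt_succ_self m))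
    rw [hw, conj_pow, h1, hg]
  obtain ⟨b, hb, s, hs, hbs⟩ := D.split hwz
  have hbsc : Commute b s := Subgroup.mem_centralizer_iff.1 hs b hb
  rw [hbs, hbsc.mul_pow] at hpow
  -- the centraliser part has order `2 ^ (m + 2)` up to odd factors
  have hs4 : s ^ (2 ^ (m + 1)) = z := by
    have h1 : s ^ (2 ^ m) * c⁻¹ ∈ A ∧ s ^ (2 ^ m) * c⁻¹ ∈ C := by
      refine ⟨?_, mul_mem (pow_mem hs _) (inv_mem hcC)⟩
      rw [eq_inv_mul_of_mul_eq hpow]
      have : (b ^ 2 ^ m)⁻¹ * (a * c) * c⁻¹ = (b ^ 2 ^ m)⁻¹ * a := by group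
      rw [this]
      exact mul_mem (inv_mem (pow_mem hb _)) ha
    have h2 : s ^ (2 ^ m) = c ∨ s ^ (2 ^ m) = z * c :=
      (D.meet _ h1.1 h1.2).imp (fun h => mul_inv_eq_one.1 h) (fun h => mul_inv_eq_iff_eq_mul.1 h)
    rw [pow_succ, pow_mul, pow_two]
    rcases h2 with h | h <;> rw [h]
    · exact hcc
    · rw [(D.comm_C hcC).mul_mul_mul_comm z c, D.z_mul, one_mul, hcc]
  set s' : ↥C := ⟨s, hs⟩
  have hord : 2 ^ (m + 2) ∣ orderOf s' := by
    rw [← Subgroup.orderOf_coe]
    have h1 : s ^ (2 ^ (m + 2)) = 1 := by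
      rw [pow_succ, pow_mul, hs4, pow_two, D.z_mul]
    have h2 : ¬ s ^ (2 ^ (m + 1)) = 1 := by rw [hs4]; exact D.z_ne
    rw [orderOf_eq_prime_pow h2 h1]
  set s2 := s' ^ (orderOf s' / 2 ^ (m + 2))
  have hs2 : orderOf s2 = 2 ^ (m + 2) := orderOf_pow_orderOf_div (orderOf_pos s').ne' hord
  obtain ⟨R', hR'⟩ := (IsPGroup.of_card (G := ↥(Subgroup.zpowers s2)) (p := 2) (n := m + 2)
    (by rw [Nat.card_zpowers, hs2])).exists_le_sylow
  have hdvd : 2 ^ (m + 2) ∣ Nat.card ↥(R' : Subgroup ↥C) := by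
    rw [← hs2, ← Nat.card_zpowers]
    exact Subgroup.card_dvd_of_le hR'
  have hRcard : Nat.card ↥(R : Subgroup ↥C) = 2 ^ (m + 1) := by
    rw [← orderOf_eq_card_of_forall_mem_zpowers hy, ← hn, Subgroup.orderOf_coe, Subgroup.orderOf_coe]
  rw [Sylow.card_eq_multiplicity R', ← Sylow.card_eq_multiplicity R, hRcard] at hdvd
  exact absurd ((Nat.pow_dvd_pow_iff_le_right (by norm_num : 1 < 2)).1 hdvd) (by omega)

/-- The involution is not a commutator of two elements of the centraliser. -/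
theorem commutator_ne (D : Data A z) {c d : G} (hc : c ∈ Subgroup.centralizer (A : Set G))
    (hd : d ∈ Subgroup.centralizer (A : Set G)) : c * d * c⁻¹ * d⁻¹ ≠ z := by
  haveI : Fact (Nat.Prime 2) := ⟨Nat.prime_two⟩
  set C := Subgroup.centralizer (A : Set G)
  intro h
  obtain ⟨R⟩ := (inferInstance : Nonempty (Sylow 2 ↥C))
  haveI := D.cyc R
  set z' : ↥C := ⟨z, D.z_memC⟩
  have hz' : orderOf z' = 2 := by rw [← Subgroup.orderOf_coe]; exact D.ord
  have h2 : 2 ∣ Nat.card ↥C := hz' ▸ orderOf_dvd_natCard z'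
  have hmin : (Nat.card ↥C).minFac = 2 := (Nat.minFac_eq_two_iff _).2 h2
  set f := MonoidHom.transferSylow R (IsCyclic.normalizer_le_centralizer hmin (D.cyc R))
  have hzR : z' ∈ (R : Subgroup ↥C) := by
    haveI : (Subgroup.zpowers z').Normal := ⟨fun x hx k => by
      have hzc : z' ∈ Subgroup.center ↥C :=
        Subgroup.mem_center_iff.2 fun c => Subtype.ext (D.comm_C c.2)
      rwa [Subgroup.mem_center_iff.1 (Subgroup.zpowers_le.2 hzc hx) k, mul_inv_cancel_right]⟩
    exact (IsPGroup.of_card (G := ↥(Subgroup.zpowers z')) (p := 2) (n := 1)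
      (by rw [Nat.card_zpowers, hz', pow_one])).le_sylow_of_normal R (Subgroup.mem_zpowers _)
  have hk : f z' = 1 := by
    have e : z' = ⟨c, hc⟩ * ⟨d, hd⟩ * ⟨c, hc⟩⁻¹ * ⟨d, hd⟩⁻¹ := Subtype.ext h.symm
    haveI : IsMulCommutative ↥(R : Subgroup ↥C) := IsCyclic.isMulCommutative
    rw [e, map_mul, map_mul, map_mul, map_inv, map_inv, mul_comm' (f ⟨c, hc⟩) (f ⟨d, hd⟩)]
    group
  refine MonoidHom.not_dvd_card_ker_transferSylow R
    (IsCyclic.normalizer_le_centralizer hmin (D.cyc R)) ?_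
  have h3 := orderOf_dvd_natCard (⟨z', MonoidHom.mem_ker.2 hk⟩ : ↥f.ker)
  rwa [Subgroup.orderOf_mk, hz'] at h3

/-- Elementary abelian subgroups of the centraliser of the involution project into `A`. -/
theorem projection (D : Data A z) (W : Subgroup G) (hW : ∀ x ∈ W, x * x = 1)
    (hWz : ∀ x ∈ W, Commute x z) (hz : z ∈ W) :
    ∃ X : Subgroup G, X ≤ A ∧ Nat.card X = Nat.card W ∧ (∀ x ∈ X, ∀ y ∈ X, x * y = y * x) ∧
      (∀ x ∈ X, x * x = 1 ∨ x * x = z) ∧ ((∀ x ∈ X, x * x = 1) → W = X) := by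
  classical
  set C := Subgroup.centralizer (A : Set G)
  have hcomm : ∀ x ∈ W, ∀ y ∈ W, x * y = y * x := fun x hx y hy => by
    have h := hW _ (mul_mem hx hy)
    calc x * y = (x * y)⁻¹ := eq_inv_of_mul_eq_one_left h
      _ = y⁻¹ * x⁻¹ := mul_inv_rev x y
      _ = y * x := by rw [inv_eq_of_mul_eq_one_right (hW x hx), inv_eq_of_mul_eq_one_right (hW y hy)]
  have hcross : ∀ a ∈ A, ∀ c ∈ C, Commute a c := fun a ha c hc =>
    Subgroup.mem_centralizer_iff.1 hc a ha
  let P : Subgroup (↥A × ↥W) :=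
    { carrier := {p | ((p.1 : G))⁻¹ * (p.2 : G) ∈ C}
      one_mem' := by simp
      mul_mem' := fun {p q} hp hq => by
        show ((p.1 : G) * (q.1 : G))⁻¹ * ((p.2 : G) * (q.2 : G)) ∈ C
        have hp' : ((p.1 : G))⁻¹ * (p.2 : G) ∈ C := hp
        have e := (hcross _ (inv_mem q.1.2) _ hp').eq
        have : ((p.1 : G) * (q.1 : G))⁻¹ * ((p.2 : G) * (q.2 : G)) =
            ((q.1 : G))⁻¹ * (((p.1 : G))⁻¹ * (p.2 : G)) * (q.2 : G) := by group
        rw [this, e, mul_assoc]
        exact mul_mem hp' hq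
      inv_mem' := fun {p} hp => by
        show ((p.1 : G)⁻¹)⁻¹ * ((p.2 : G))⁻¹ ∈ C
        have hp' : ((p.1 : G))⁻¹ * (p.2 : G) ∈ C := hp
        have e := (hcross _ p.1.2 _ (inv_mem hp')).eq
        have : ((p.1 : G)⁻¹)⁻¹ * ((p.2 : G))⁻¹ =
            (p.1 : G) * (((p.1 : G))⁻¹ * (p.2 : G))⁻¹ * (p.1 : G)⁻¹ := by group
        rw [this, e, mul_assoc, mul_inv_cancel, mul_one]
        exact inv_mem hp' }
  let f1 : ↥P →* G := A.subtype.comp ((MonoidHom.fst _ _).comp P.subtype)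
  let f2 : ↥P →* ↥W := (MonoidHom.snd _ _).comp P.subtype
  have hf2 : Function.Surjective f2 := fun w => by
    obtain ⟨a, ha, c, hc, e⟩ := D.split (hWz w w.2)
    refine ⟨⟨(⟨a, ha⟩, w), ?_⟩, rfl⟩
    show a⁻¹ * (w : G) ∈ C
    rw [e, inv_mul_cancel_left]; exact hc
  have hzz : z⁻¹ = z := inv_eq_of_mul_eq_one_right D.z_mul
  have two : ∀ (H : Subgroup ↥P) (t : ↥P), t ≠ 1 → t ∈ H → (∀ x ∈ H, x = 1 ∨ x = t) →
      Nat.card H = 2 := fun H t ht htH hH => by
    rw [Nat.card_eq_two_iff]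
    refine ⟨1, ⟨t, htH⟩, fun h => ht (congrArg Subtype.val h).symm, ?_⟩
    rw [Set.eq_univ_iff_forall]
    rintro ⟨x, hx⟩
    rcases hH x hx with rfl | rfl <;> simp
  have k2 : Nat.card f2.ker = 2 := by
    refine two _ ⟨(⟨z, D.memA⟩, 1), by show z⁻¹ * 1 ∈ C; rw [mul_one]; exact inv_mem D.z_memC⟩
      (fun h => D.z_ne (congrArg (fun p : ↥P => ((p.1.1 : ↥A) : G)) h)) rfl ?_
    rintro ⟨⟨a, w⟩, hp⟩ hk
    have hw : w = 1 := hk
    subst hw
    have ha : (a : G) ∈ C := by
      have : (a : G)⁻¹ * ((1 : ↥W) : G) ∈ C := hp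
      simpa using this
    rcases D.meet _ a.2 ha with h | h
    · left; exact Subtype.ext (Prod.ext (Subtype.ext h) rfl)
    · right; exact Subtype.ext (Prod.ext (Subtype.ext h) rfl)
  have k1 : Nat.card f1.ker = 2 := by
    refine two _ ⟨(1, ⟨z, hz⟩), by show ((1 : ↥A) : G)⁻¹ * z ∈ C; simpa using D.z_memC⟩
      (fun h => D.z_ne (congrArg (fun p : ↥P => ((p.1.2 : ↥W) : G)) h)) rfl ?_
    rintro ⟨⟨a, w⟩, hp⟩ hk
    have ha : (a : G) = 1 := hk
    have hw : (w : G) ∈ C := by
      have : (a : G)⁻¹ * (w : G) ∈ C := hp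
      simpa [ha] using this
    rcases D.invol_eq hw (hW _ w.2) with h | h
    · left; exact Subtype.ext (Prod.ext (Subtype.ext ha) (Subtype.ext h))
    · right; exact Subtype.ext (Prod.ext (Subtype.ext ha) (Subtype.ext h))
  have c1 := f1.ker.index_mul_card
  have c2 := f2.ker.index_mul_card
  rw [Subgroup.index_ker, k1] at c1
  rw [Subgroup.index_ker, k2, MonoidHom.range_eq_top.2 hf2, Subgroup.card_top] at c2
  have hdata : ∀ x ∈ f1.range, ∃ w ∈ W, ∃ c ∈ C, w = x * c ∧ x ∈ A := by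
    rintro x ⟨⟨⟨a, w⟩, hp⟩, rfl⟩
    exact ⟨w, w.2, (a : G)⁻¹ * (w : G), hp, (mul_inv_cancel_left (a : G) (w : G)).symm, a.2⟩
  refine ⟨f1.range, fun x hx => ?_, by omega, fun x hx y hy => ?_, fun x hx => ?_, fun helem => ?_⟩
  · obtain ⟨-, -, -, -, -, h⟩ := hdata x hx; exact h
  · obtain ⟨w, hw, c, hc, rfl, hxA⟩ := hdata x hx
    obtain ⟨v, hv, d, hd, rfl, hyA⟩ := hdata y hy
    have e := hcomm _ hw _ hv
    have e' : x * y * (c * d) = y * x * (d * c) := by
      rw [← (hcross y hyA c hc).symm.mul_mul_mul_comm x d, ← (hcross x hxA d hd).symm.mul_mul_mul_comm y c]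
      exact e
    have h1 : (y * x)⁻¹ * (x * y) = d * c * (c * d)⁻¹ := by
      rw [eq_mul_inv_iff_mul_eq, mul_assoc, e', inv_mul_cancel_left]
    have hA' : (y * x)⁻¹ * (x * y) ∈ A := mul_mem (inv_mem (mul_mem hyA hxA)) (mul_mem hxA hyA)
    rcases D.meet _ hA' (h1 ▸ mul_mem (mul_mem hd hc) (inv_mem (mul_mem hc hd))) with h | h
    · exact (inv_mul_eq_one.1 h).symm
    · exfalso
      refine D.commutator_ne hd hc ?_
      rw [← h, h1]; group
  · obtain ⟨w, hw, c, hc, rfl, hxA⟩ := hdata x hx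
    have h := hW _ hw
    rw [(hcross x hxA c hc).symm.mul_mul_mul_comm x c] at h
    refine D.meet _ (mul_mem hxA hxA) ?_
    rw [eq_inv_of_mul_eq_one_left h]
    exact inv_mem (mul_mem hc hc)
  · symm
    refine Subgroup.eq_of_le_of_card_ge (fun x hx => ?_) (by omega)
    obtain ⟨w, hw, c, hc, rfl, hxA⟩ := hdata x hx
    have h := hW _ hw
    rw [(hcross x hxA c hc).symm.mul_mul_mul_comm x c, helem x hx, one_mul] at h
    rcases D.invol_eq hc h with rfl | rfl
    · rwa [mul_one] at hw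
    · have := mul_mem hw hz
      rwa [mul_assoc, D.z_mul, mul_one] at this

/-- Without fusion of the involution inside `A` the subgroup is normal. -/
theorem normal_of (D : Data A z) (hO : Cfsg.oddCore G = ⊥)
    (h : ∀ u ∈ A, u * u = 1 → IsConj z u → u = z) : A.Normal := by
  have hiso : Cfsg.IsIsolatedInvolution z := by
    refine ⟨D.ord, fun g hg => ?_⟩
    have hc : IsConj z (g * z * g⁻¹) := isConj_iff.2 ⟨g, rfl⟩
    refine h _ (D.mem_of_conj hg.symm hc) ?_ hc
    calc g * z * g⁻¹ * (g * z * g⁻¹) = g * (z * z) * g⁻¹ := by group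
      _ = 1 := by rw [D.z_mul]; group
  have hz := ZStar.Main.mem_center_of_isolated hO hiso
  rw [← Subgroup.normalizer_eq_top_iff, D.normalizer_eq, eq_top_iff]
  exact fun g _ => Subgroup.mem_centralizer_singleton_iff.2 (Subgroup.mem_center_iff.1 hz g)

end Data

/-- All automorphisms are inner when the group is perfect and those of the central quotient are. -/
theorem inner_of_quotient {A : Type*} [Group A] (hp : commutator A = ⊤)
    (h : ∀ f : (A ⧸ Subgroup.center A) ≃* (A ⧸ Subgroup.center A),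
      ∃ q : A ⧸ Subgroup.center A, ∀ x, f x = q * x * q⁻¹)
    (f : A ≃* A) : ∃ a : A, ∀ x, f x = a * x * a⁻¹ := by
  let fq := QuotientGroup.congr (Subgroup.center A) (Subgroup.center A) f
    (Subgroup.characteristic_iff_map_eq.1 inferInstance f)
  obtain ⟨q, hq⟩ := h fq
  obtain ⟨a, rfl⟩ := QuotientGroup.mk_surjective q
  refine ⟨a, fun x => ?_⟩
  have hε : ∀ x : A, (a * x * a⁻¹)⁻¹ * f x ∈ Subgroup.center A := fun x => by
    rw [← QuotientGroup.eq]
    exact (hq (x : A ⧸ Subgroup.center A)).symm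
  let ε : A →* ↥(Subgroup.center A) := MonoidHom.mk' (fun x => ⟨_, hε x⟩) fun x y => Subtype.ext (by
    show (a * (x * y) * a⁻¹)⁻¹ * f (x * y) = (a * x * a⁻¹)⁻¹ * f x * ((a * y * a⁻¹)⁻¹ * f y)
    have e := Subgroup.mem_center_iff.1 (hε x) (a * y * a⁻¹)⁻¹
    calc (a * (x * y) * a⁻¹)⁻¹ * f (x * y)
        = ((a * y * a⁻¹)⁻¹ * ((a * x * a⁻¹)⁻¹ * f x)) * f y := by rw [map_mul]; group
      _ = _ := by rw [e]; group)
  have hε1 : ε x = 1 := by
    have hle : commutator A ≤ ε.ker := by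
      rw [commutator_def, Subgroup.commutator_le]
      intro u _ v _
      rw [MonoidHom.mem_ker, map_commutatorElement, commutatorElement_eq_one_iff_mul_comm]
      exact Subtype.ext (Subgroup.mem_center_iff.1 (ε v).2 _)
    exact MonoidHom.mem_ker.1 (hle (hp ▸ Subgroup.mem_top x))
  have := congrArg Subtype.val hε1
  exact (inv_mul_eq_one.1 this).symm

end Cfsg.Agent.StdCyclic
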